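import Cfsg.Agent.H282.SK.Def

/-!
# S3010 (Sidki pairs): groups all of whose involutions invert an element of odd order with centralizer of odd order
(helper438)
-/

set_option autoImplicit false

universe u

open Subgroup Cfsg

namespace Cfsg.Agent.H438.SK

open Cfsg.Agent.H282.SK

/-- an involution inverting an element of prime order with centralizer of odd order -/
theorem exists_inverting {X : Type*} [Group X] [Finite X] {q : ℕ} (hq : q.Prime) {x : X} (hx : orderOf x = q)
    (hC : Odd (Nat.card (centralizer ({x} : Set X)))) (hN : 2 ∣ Nat.card (normalizer ((zpowers x : Subgroup X) : Set X))) :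
    ∃ t : X, orderOf t = 2 ∧ t * x * t⁻¹ = x⁻¹ := by
  have := Fact.mk Nat.prime_two
  obtain ⟨t', ht'⟩ := exists_prime_orderOf_dvd_card' (G := normalizer ((zpowers x : Subgroup X) : Set X)) 2 hN
  set t : X := (t' : X) with htdef
  have ht : orderOf t = 2 := by rw [htdef, Subgroup.orderOf_coe, ht']
  refine ⟨t, ht, ?_⟩
  have htt : t * t = 1 := by rw [← pow_two, ← ht, pow_orderOf_eq_one]
  have h1 : t * x * t⁻¹ ∈ zpowers x := (mem_normalizer_iff.1 t'.2 x).1 (mem_zpowers x)
  obtain ⟨j, hj⟩ := mem_zpowers_iff.1 h1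
  have h2 : x ^ (j * j) = x := by
    calc x ^ (j * j) = (x ^ j) ^ j := by rw [zpow_mul]
      _ = (t * x * t⁻¹) ^ j := by rw [hj]
      _ = t * x ^ j * t⁻¹ := conj_zpow
      _ = t * (t * x * t⁻¹) * t⁻¹ := by rw [hj]
      _ = (t * t) * x * (t * t)⁻¹ := by group
      _ = x := by rw [htt]; group
  have h3 : (q : ℤ) ∣ (j - 1) * (j + 1) := by
    have h4 : x ^ (j * j - 1) = 1 := by rw [zpow_sub, h2, zpow_one, mul_inv_cancel]
    have h5 := orderOf_dvd_iff_zpow_eq_one.2 h4
    rw [hx] at h5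
    have h6 : (j - 1) * (j + 1) = j * j - 1 := by ring
    rwa [h6]
  rcases (Nat.prime_iff_prime_int.1 hq).dvd_or_dvd h3 with h4 | h4
  · exfalso
    have h5 : x ^ j = x := by
      have h6 : x ^ (j - 1) = 1 := orderOf_dvd_iff_zpow_eq_one.1 (by rw [hx]; exact h4)
      rw [zpow_sub, zpow_one, mul_inv_eq_one] at h6
      exact h6
    rw [h5] at hj
    have h6 : t * x = x * t := by
      calc t * x = t * x * t⁻¹ * t := by group
        _ = x * t := by rw [← hj]
    have h7 : t ∈ centralizer ({x} : Set X) := mem_centralizer_singleton_iff.2 h6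
    have h8 : orderOf t ∣ Nat.card (centralizer ({x} : Set X)) := Subgroup.orderOf_dvd_natCard _ h7
    rw [ht] at h8
    exact Nat.not_even_iff_odd.2 hC (even_iff_two_dvd.2 h8)
  · rw [← hj]
    have h6 : x ^ (j + 1) = 1 := orderOf_dvd_iff_zpow_eq_one.1 (by rw [hx]; exact h4)
    rw [zpow_add, zpow_one, mul_eq_one_iff_eq_inv] at h6
    exact h6

/-- every involution inverts an element of odd order with centralizer of odd order -/
def Kill (X : Type*) [Group X] : Prop :=
  ∀ v : X, v * v = 1 → v ≠ 1 → ∃ x : X, Odd (orderOf x) ∧ v * x * v⁻¹ = x⁻¹ ∧ Odd (Nat.card (centralizer ({x} : Set X)))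

/-- one class of involutions and a prime `q` with `|C(x)|` odd, `|N(⟨x⟩)|` even -/
theorem Kill.of_one {X : Type*} [Group X] [Finite X] {q : ℕ} (hq : q.Prime) (hq2 : q ≠ 2) (hd : q ∣ Nat.card X)
    (hC : ∀ x : X, orderOf x = q → Odd (Nat.card (centralizer ({x} : Set X))))
    (hN : ∀ x : X, orderOf x = q → 2 ∣ Nat.card (normalizer ((zpowers x : Subgroup X) : Set X)))
    (hone : ∀ x y : X, orderOf x = 2 → orderOf y = 2 → IsConj x y) : Kill X := by
  have := Fact.mk hq
  intro v hv hv1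
  obtain ⟨x, hx⟩ := exists_prime_orderOf_dvd_card' (G := X) q hd
  obtain ⟨t, ht, htx⟩ := exists_inverting hq hx (hC x hx) (hN x hx)
  have hvo : orderOf v = 2 := orderOf_eq_prime (by rw [pow_two, hv]) hv1
  obtain ⟨g, hg⟩ := isConj_iff.1 (hone t v ht hvo)
  have ho : orderOf (g * x * g⁻¹) = q := by
    have h1 : g * x * g⁻¹ = MulAut.conj g x := by simp
    rw [h1, MulEquiv.orderOf_eq, hx]
  refine ⟨g * x * g⁻¹, by rw [ho]; exact hq.odd_of_ne_two hq2, ?_, hC _ ho⟩
  rw [← hg]
  calc g * t * g⁻¹ * (g * x * g⁻¹) * (g * t * g⁻¹)⁻¹ = g * (t * x * t⁻¹) * g⁻¹ := by group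
    _ = (g * x * g⁻¹)⁻¹ := by rw [htx]; group

theorem card_centralizer_equiv {X Y : Type*} [Group X] [Group Y] (e : X ≃* Y) (x : X) :
    Nat.card (centralizer ({e x} : Set Y)) = Nat.card (centralizer ({x} : Set X)) := by
  have h : centralizer ({e x} : Set Y) = (centralizer ({x} : Set X)).map e.toMonoidHom := by
    ext y
    rw [mem_map, mem_centralizer_singleton_iff]
    constructor
    · intro hy
      refine ⟨e.symm y, ?_, e.apply_symm_apply y⟩
      rw [mem_centralizer_singleton_iff]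
      apply e.injective
      rw [map_mul, map_mul, e.apply_symm_apply, hy]
    · rintro ⟨z, hz, rfl⟩
      have h1 := mem_centralizer_singleton_iff.1 hz
      show e z * e x = e x * e z
      rw [← map_mul, h1, map_mul]
  rw [h, card_map_of_injective e.injective]

theorem Kill.of_equiv {X Y : Type*} [Group X] [Group Y] (e : X ≃* Y) (h : Kill X) : Kill Y := by
  intro v hv hv1
  obtain ⟨x, hx, hi, hc⟩ := h (e.symm v) (by rw [← map_mul, hv, map_one])
    (fun h1 => hv1 ((map_eq_one_iff e.symm e.symm.injective).1 h1))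
  refine ⟨e x, by rwa [MulEquiv.orderOf_eq], ?_, by rwa [card_centralizer_equiv]⟩
  apply e.symm.injective
  rw [map_mul, map_mul, map_inv, map_inv, e.symm_apply_apply]
  exact hi

/-- every automorphism is inner -/
def Inn (X : Type*) [Group X] : Prop := ∀ φ : MulAut X, ∃ x : X, φ = MulAut.conj x

theorem Inn.of_range {X : Type*} [Group X] (h : ∀ φ : MulAut X, φ ∈ (MulAut.conj : X →* MulAut X).range) : Inn X :=
  fun φ => by obtain ⟨x, hx⟩ := h φ; exact ⟨x, hx.symm⟩

theorem Inn.of_equiv {X Y : Type*} [Group X] [Group Y] (e : X ≃* Y) (h : Inn X) : Inn Y := by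
  intro φ
  obtain ⟨x, hx⟩ := h ((e.trans φ).trans e.symm)
  refine ⟨e x, ?_⟩
  ext y
  have h1 := DFunLike.congr_fun hx (e.symm y)
  simp only [MulEquiv.trans_apply, MulAut.conj_apply, e.apply_symm_apply] at h1
  apply e.symm.injective
  rw [h1, MulAut.conj_apply, map_mul, map_mul, map_inv, e.symm_apply_apply]

section cx

variable {G : Type u} [Group G] [Finite G] {V K : Subgroup G}

theorem eq_top (h : Cx V K) (hin : Inn K) : K = ⊤ := by
  rw [eq_top_iff]
  intro g _
  have := h.norm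
  obtain ⟨k, hk⟩ := hin (MulAut.conjNormal g)
  have h1 : (k : G)⁻¹ * g ∈ centralizer (K : Set G) := by
    rw [mem_centralizer_iff]
    intro y hy
    have h2 := congrArg Subtype.val (DFunLike.congr_fun hk (⟨y, hy⟩ : K))
    rw [MulAut.conjNormal_apply, MulAut.conj_apply] at h2
    have h3 : g * y * g⁻¹ = k * y * (k : G)⁻¹ := h2
    calc y * ((k : G)⁻¹ * g) = (k : G)⁻¹ * (k * y * (k : G)⁻¹) * g := by group
      _ = (k : G)⁻¹ * g * y := by rw [← h3]; group
  rw [h.cent, mem_bot] at h1
  rw [← inv_mul_eq_one.1 h1]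
  exact k.2

/-- **the row** -/
theorem false_of_kill (h : Cx V K) (hin : Inn K) (hk : Kill K) : False := by
  have hK := eq_top h hin
  obtain ⟨v, hv, hv1⟩ : ∃ v ∈ V, v ≠ 1 := by
    have h1 := h.V_ne_bot
    rw [ne_eq, eq_bot_iff_forall] at h1
    push Not at h1
    exact h1
  have hvK : v ∈ K := by rw [hK]; exact mem_top v
  obtain ⟨x, hx, hi, hc⟩ := hk ⟨v, hvK⟩ (Subtype.ext (h.sq hv)) (fun h1 => hv1 (congrArg Subtype.val h1))
  obtain ⟨w, hw, hw1, hwx⟩ := h.t0 hv (x := (x : G)) (by rwa [Subgroup.orderOf_coe]) (congrArg Subtype.val hi)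
  have hwK : w ∈ K := by rw [hK]; exact mem_top w
  have h2 : (⟨w, hwK⟩ : K) ∈ centralizer ({x} : Set K) := mem_centralizer_singleton_iff.2 (Subtype.ext hwx)
  have h3 : orderOf (⟨w, hwK⟩ : K) = 2 :=
    orderOf_eq_prime (by rw [pow_two]; exact Subtype.ext (h.sq hw)) (fun h1 => hw1 (congrArg Subtype.val h1))
  have h4 := Subgroup.orderOf_dvd_natCard _ h2
  rw [h3] at h4
  exact Nat.not_even_iff_odd.2 hc (even_iff_two_dvd.2 h4)

end cx

/-- **the row for a group without outer automorphisms** -/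
theorem dead_of_kill {X : Type} [Group X] (hin : Inn X) (hk : Kill X) :
    DeadS.{u} fun K _ => Nonempty (K ≃* X) := by
  intro G _ _ V K h ⟨e⟩
  exact false_of_kill h (hin.of_equiv e.symm) (hk.of_equiv e.symm)

end Cfsg.Agent.H438.SK
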