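import Cfsg.Agent.H438.SK.Gen
import Cfsg.Agent.H438.Fpr.LyA
import Cfsg.Agent.TypeM.OutLyFin
import Cfsg.Agent.H444.ThLoc
import Cfsg.Agent.MonsterX.ThOneClass
import Cfsg.Agent.KFacts.Th.Main
import Cfsg.Agent.R10.Close

/-!
# S3010: the rows of `Ly`, `Th` (helper438)
-/

set_option autoImplicit false

universe u

open Subgroup Cfsg

namespace Cfsg.Agent.H438.SK

open Cfsg.Agent.H282.SK

/-- the prime `q`: `|C(R)| = c` odd, `|N(R)| = n` even -/
theorem kill_of_cn {X : Type*} [Group X] [Finite X] {q c n : ℕ} (hq : q.Prime) (hq2 : q ≠ 2) (hc : Odd c) (hn : 2 ∣ n)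
    (hd : q ∣ Nat.card X) (hcn : ∀ R : Subgroup X, Nat.card R = q → Nat.card (centralizer (R : Set X)) = c ∧
      Nat.card (normalizer (R : Set X)) = n)
    (hone : ∀ x y : X, orderOf x = 2 → orderOf y = 2 → IsConj x y) : Kill X := by
  refine Kill.of_one hq hq2 hd (fun x hx => ?_) (fun x hx => ?_) hone
  · have h := (hcn (zpowers x) (by rw [Nat.card_zpowers, hx])).1
    rw [Cfsg.Agent.H715.Fpr.cent_zpowers'] at h
    rwa [h]
  · rw [(hcn (zpowers x) (by rw [Nat.card_zpowers, hx])).2]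
    exact hn

theorem kill_ly : Kill Cfsg.Spor.Ly := by
  have := Cfsg.Agent.H493.Sep.LyLoc.fin
  refine kill_of_cn (q := 31) (c := 31) (n := 186) (by norm_num) (by norm_num) (by decide) (by decide)
    (by rw [Cfsg.Agent.H493.Sep.LyLoc.card]; decide +kernel) (fun R hR => Cfsg.Agent.H438.Fpr.Ly.cn31 hR) ?_
  intro x y hx hy
  obtain ⟨g, hg⟩ := Cfsg.Agent.R10.Close.one_class hx
  obtain ⟨k, hk⟩ := Cfsg.Agent.R10.Close.one_class hy
  exact (isConj_iff.2 ⟨g, hg⟩).symm.trans (isConj_iff.2 ⟨k, hk⟩)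

/-- **`Ly`** -/
theorem dead_ly : DeadS.{u} fun K _ => Cfsg.Spor.IsoLy K :=
  dead_of_kill (Inn.of_range Cfsg.Agent.TypeM.OutLyFin.inner_ly) kill_ly

theorem kill_th : Kill Cfsg.Spor.Th := by
  have : Finite Cfsg.Spor.Th := Nat.finite_of_card_ne_zero (by rw [Cfsg.Agent.S1700.result.2]; norm_num)
  refine kill_of_cn (q := 19) (c := 19) (n := 342) (by norm_num) (by norm_num) (by decide) (by decide)
    (by rw [Cfsg.Agent.S1700.result.2]; norm_num) (fun R hR => Cfsg.Agent.H444.ThLoc.cn19 hR)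
    Cfsg.Agent.MonsterX.ThOneClass.oneClass

/-- **`Th`** -/
theorem dead_th : DeadS.{u} fun K _ => Cfsg.Spor.IsoTh K :=
  dead_of_kill Cfsg.Agent.KFacts.Th.Main.inner kill_th

end Cfsg.Agent.H438.SK
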