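import Cfsg.Agent.H438.SK.RowA
import Cfsg.Agent.H305.SepJ1
import Cfsg.Agent.H715.Fpr.MathData
import Cfsg.Agent.OddHalf.D4.Spor.J1Out
import Cfsg.Agent.KFacts.M23.OutOne
import Cfsg.Agent.KFacts.FiTTh.Uniq
import Cfsg.Agent.SectRankFour.AutM11

/-!
# S3010: the rows of `J₁`, `M₁₁`, `M₂₃` (helper438)
-/

set_option autoImplicit false

universe u

open Subgroup Cfsg

namespace Cfsg.Agent.H438.SK

open Cfsg.Agent.H282.SK

theorem kill_j1 : Kill Cfsg.Spor.J1 := by
  have := Cfsg.Agent.H305.SepJ1.fin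
  refine kill_of_cn (q := 19) (c := 19) (n := 114) (by norm_num) (by norm_num) (by decide) (by decide)
    (by rw [Cfsg.Agent.H305.SepJ1.card]; decide +kernel) (fun R hR => Cfsg.Agent.H305.SepJ1.cn19 hR) ?_
  intro x y hx hy
  exact isConj_iff.2 (Cfsg.Agent.H305.SepJ1.local'.conj x y hx hy)

/-- **`J₁`** -/
theorem dead_j1 : DeadS.{u} fun K _ => Cfsg.Spor.IsoJ1 K :=
  dead_of_kill Cfsg.Agent.OddHalf.D4.Spor.J1Out.inn kill_j1

theorem kill_m11 : Kill Cfsg.Spor.M11 := by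
  have h := Cfsg.Agent.H715.Fpr.MathData.isM11
  have : Finite Cfsg.Spor.M11 := Nat.finite_of_card_ne_zero (by rw [h.2]; norm_num)
  refine kill_of_cn (q := 5) (c := 5) (n := 20) (by norm_num) (by norm_num) (by decide) (by decide)
    (by rw [h.2]; norm_num) (fun R hR => Cfsg.Agent.H715.Fpr.MathData.cn11_5 hR) ?_
  intro x y hx hy
  exact Cfsg.Agent.SporadicA.M11Facts.isConj_involutions h hx hy

theorem inn_m11 : Inn Cfsg.Spor.M11 := by
  have h := Cfsg.Agent.H715.Fpr.MathData.isM11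
  have : Finite Cfsg.Spor.M11 := Nat.finite_of_card_ne_zero (by rw [h.2]; norm_num)
  exact fun φ => Cfsg.Agent.SectRankFour.AutM11.exists_conj h φ

/-- **`M₁₁`** -/
theorem dead_m11 : DeadS.{u} fun K _ => Cfsg.Spor.IsoM11 K := dead_of_kill inn_m11 kill_m11

theorem kill_m23 : Kill Cfsg.Spor.M23 := by
  have : Finite Cfsg.Spor.M23 := inferInstance
  refine kill_of_cn (q := 5) (c := 15) (n := 60) (by norm_num) (by norm_num) (by decide) (by decide)
    (by rw [Cfsg.Agent.H715.Fpr.MathData.card23]; decide +kernel) (fun R hR => Cfsg.Agent.H715.Fpr.MathData.cn23_5 hR) ?_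
  intro x y hx hy
  have hx2 : (x : Equiv.Perm GolayPt) * x = 1 := by
    have h1 : x * x = 1 := by rw [← pow_two, ← hx, pow_orderOf_eq_one]
    exact congrArg Subtype.val h1
  have hy2 : (y : Equiv.Perm GolayPt) * y = 1 := by
    have h1 : y * y = 1 := by rw [← pow_two, ← hy, pow_orderOf_eq_one]
    exact congrArg Subtype.val h1
  obtain ⟨k, hk, e⟩ := Cfsg.Agent.KFacts.FiTTh.MTwThree.conj_of x.2 y.2 hx2 hy2
    (fun h1 => by
      have h2 : x = 1 := Subtype.ext h1
      rw [h2, orderOf_one] at hx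
      norm_num at hx)
    (fun h1 => by
      have h2 : y = 1 := Subtype.ext h1
      rw [h2, orderOf_one] at hy
      norm_num at hy)
  exact isConj_iff.2 ⟨⟨k, hk⟩, Subtype.ext e⟩

/-- **`M₂₃`** -/
theorem dead_m23 : DeadS.{u} fun K _ => Cfsg.Spor.IsoM23 K :=
  dead_of_kill Cfsg.Agent.KFacts.M23.OutOne.exists_conj kill_m23

end Cfsg.Agent.H438.SK
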